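import Cfsg.Agent.Mrg.Omega.SQT.RankThree
import Cfsg.Agent.Mrg.Omega.KL.TwoS.Inp
import Cfsg.Agent.Mrg.Omega.NOThreeL.RRed.Blk.Def


/-!
# Project SQT: the blocks of `V*` for `m_3(G) ≤ 2` (helper949)

* `Tri E N d` : `E` induces `S₃` on the triple `d` in `N`;
* `three_blocks` : there are no three commuting triples;
* `Lett.tri` : a block `Sym(Ω)`, `|Ω| ≥ 3`, has a triple;
* `Lett.lt_nine` : `|Ω| < 9`;  `Lett.lt_six` : `|Ω| < 6` if there is a second block;
* **`Dec.small`** : a block decomposition has at most two blocks, of at most five letters if there are two of them, of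
  at most seven letters if there is one.
-/

set_option autoImplicit false
set_option linter.unusedSectionVars false

namespace Cfsg.Agent.Omega.SQT.NoThree

open Subgroup Cfsg
open Cfsg.Agent.Omega.SQT.RankThree (Act no_act)
open Cfsg.Agent.Omega.KL.TwoS (Lett Rel)
open Cfsg.Agent.Omega.NOThreeL.RRed.Blk (Dec)

universe u v w

variable {G : Type u} [Group G]

/-- `E` induces `S₃` on the triple `d` in `N` -/
structure Tri (E N : Subgroup G) (d : Fin 3 → G) : Prop where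
  inj : Function.Injective d
  mem : ∀ a, d a ∈ N
  s : ∃ g ∈ E, ∀ a, g * d a * g⁻¹ = d (Equiv.swap 1 2 a)
  t : ∃ g ∈ E, ∀ a, g * d a * g⁻¹ = d (Equiv.swap 0 2 a)

theorem cent {W : Subgroup G} {g : G} (hg : g ∈ centralizer (W : Set G)) {x : G} (hx : x ∈ W) :
    g * x * g⁻¹ = x := by
  rw [← mem_centralizer_iff.1 hg x hx]; group

/-- **Three commuting triples** do not exist if `m_3(G) ≤ 2`. -/
theorem three_blocks [Finite G] (hr : PRankLE 3 2 G) (E N : Fin 3 → Subgroup G)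
    (hc : ∀ i j, i ≠ j → E i ≤ centralizer (N j : Set G)) (d : Fin 3 → Fin 3 → G)
    (hd : ∀ i, Tri (E i) (N i) (d i)) : False := by
  have key : ∀ (i : Fin 3) (σ : Equiv.Perm (Fin 3)), (∃ g ∈ E i, ∀ a, g * d i a * g⁻¹ = d i (σ a)) →
      ∃ g ∈ (⊤ : Subgroup G), Act d g (Pi.mulSingle i σ) := by
    rintro i σ ⟨g, hg, h⟩
    refine ⟨g, mem_top _, fun j a => ?_⟩
    rcases eq_or_ne j i with rfl | hj
    · rw [Pi.mulSingle_eq_same]; exact h a
    · rw [Pi.mulSingle_eq_of_ne hj, cent (hc i j hj.symm hg) ((hd j).mem a)]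
      rfl
  exact no_act hr ⊤ d (fun i => (hd i).inj) (fun i => key i _ (hd i).s) fun i => key i _ (hd i).t

section lett

variable {Ω : Type w} [Fintype Ω] [DecidableEq Ω] {V R : Subgroup G} {φ : Finset Ω → G}

/-- the pair of letters opposite to `a` -/
def pr (e : Fin 3 ↪ Ω) (a : Fin 3) : Finset Ω := (Finset.univ.erase a).map e

theorem even_pr (e : Fin 3 ↪ Ω) (a : Fin 3) : Even (pr e a).card := by
  rw [pr, Finset.card_map, Finset.card_erase_of_mem (Finset.mem_univ _), Finset.card_univ, Fintype.card_fin]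
  decide

theorem map_pr (e : Fin 3 ↪ Ω) (σ : Equiv.Perm (Fin 3)) (τ : Equiv.Perm Ω) (h : ∀ a, τ (e a) = e (σ a)) (a : Fin 3) :
    (pr e a).map τ.toEmbedding = pr e (σ a) := by
  ext x
  simp only [pr, Finset.mem_map, Finset.mem_erase, Finset.mem_univ, and_true, Equiv.coe_toEmbedding]
  constructor
  · rintro ⟨_, ⟨b, hb, rfl⟩, rfl⟩
    exact ⟨σ b, fun he => hb (σ.injective he), (h b).symm⟩
  · rintro ⟨b, hb, rfl⟩
    refine ⟨e (σ⁻¹ b), ⟨σ⁻¹ b, fun he => hb ?_, rfl⟩, ?_⟩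
    · rw [← he]; exact (Equiv.apply_symm_apply σ b).symm
    · rw [h]; exact congrArg e (Equiv.apply_symm_apply σ b)

theorem map_pr_of_disj (e e' : Fin 3 ↪ Ω) (σ : Equiv.Perm (Fin 3)) (h : ∀ a b, e a ≠ e' b) (a : Fin 3) :
    (pr e' a).map (σ.viaFintypeEmbedding e).toEmbedding = pr e' a := by
  have h1 : ∀ b, (σ.viaFintypeEmbedding e) (e' b) = e' b := fun b => by
    refine Equiv.Perm.viaFintypeEmbedding_apply_notMem_range σ e ?_
    rintro ⟨a, ha⟩
    exact h a b ha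
  exact map_pr e' 1 _ h1 a

theorem inj_pr (L : Lett V R φ) (e : Fin 3 ↪ Ω) : Function.Injective fun a => φ (pr e a) := by
  intro a b hab
  by_contra hne
  have hab' : φ (pr e a) = φ (pr e b) := hab
  have h1 : φ (symmDiff (pr e a) (pr e b)) = 1 := by
    rw [L.mul, hab', ← L.mul, symmDiff_self, Finset.bot_eq_empty, L.phi_empty]
  have h2 := L.inj _ (Cfsg.Agent.Omega.KL.TwoS.even_symmDiff (even_pr e a) (even_pr e b)) h1
  have h3 : pr e a = pr e b := symmDiff_eq_bot.1 h2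
  have h4 : e b ∈ pr e a := Finset.mem_map.2 ⟨b, Finset.mem_erase.2 ⟨fun h => hne h.symm, Finset.mem_univ _⟩, rfl⟩
  rw [h3] at h4
  obtain ⟨c, hc, he⟩ := Finset.mem_map.1 h4
  exact (Finset.mem_erase.1 hc).1 (e.injective he)

/-- an element which permutes the letters of one triple -/
theorem exists_rel (L : Lett V R φ) (e : Fin 3 ↪ Ω) (σ : Equiv.Perm (Fin 3)) :
    ∃ g ∈ R, (∀ a, g * φ (pr e a) * g⁻¹ = φ (pr e (σ a))) ∧
      ∀ e' : Fin 3 ↪ Ω, (∀ a b, e a ≠ e' b) → ∀ a, g * φ (pr e' a) * g⁻¹ = φ (pr e' a) := by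
  obtain ⟨g, hg, h⟩ := L.all (σ.viaFintypeEmbedding e)
  refine ⟨g, hg, fun a => ?_, fun e' he a => ?_⟩
  · rw [h _ (even_pr e a), map_pr e σ _ (fun b => Equiv.Perm.viaFintypeEmbedding_apply_image σ e b)]
  · rw [h _ (even_pr e' a), map_pr_of_disj e e' σ he]

theorem mem_pr (L : Lett V R φ) (e : Fin 3 ↪ Ω) (a : Fin 3) : φ (pr e a) ∈ V := (L.mem _).2 ⟨_, even_pr e a, rfl⟩

theorem tri (L : Lett V R φ) (e : Fin 3 ↪ Ω) : Tri R V fun a => φ (pr e a) where
  inj := inj_pr L e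
  mem := mem_pr L e
  s := by
    obtain ⟨g, hg, h, -⟩ := exists_rel L e (Equiv.swap 1 2)
    exact ⟨g, hg, h⟩
  t := by
    obtain ⟨g, hg, h, -⟩ := exists_rel L e (Equiv.swap 0 2)
    exact ⟨g, hg, h⟩

theorem exists_emb {n : ℕ} (h : n ≤ Fintype.card Ω) : Nonempty (Fin n ↪ Ω) := by
  rw [← Fintype.card_fin n] at h
  exact Function.Embedding.nonempty_of_card_le h

/-- `k` disjoint triples -/
theorem exists_disj {k : ℕ} (h : 3 * k ≤ Fintype.card Ω) :
    ∃ e : Fin k → Fin 3 ↪ Ω, ∀ i j, i ≠ j → ∀ a b, e i a ≠ e j b := by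
  obtain ⟨f⟩ := exists_emb (Ω := Ω) (n := k * 3) (by omega)
  have g : Fin k × Fin 3 ≃ Fin (k * 3) := finProdFinEquiv
  refine ⟨fun i => ⟨fun a => f (g (i, a)), fun a b hab => ?_⟩, fun i j hij a b he => hij ?_⟩
  · have := g.injective (f.injective hab)
    exact (Prod.mk.inj this).2
  · have := g.injective (f.injective he)
    exact (Prod.mk.inj this).1

/-- **No block of nine letters.** -/
theorem lt_nine [Finite G] (hr : PRankLE 3 2 G) (L : Lett V R φ) : Fintype.card Ω < 9 := by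
  by_contra hcon
  obtain ⟨e, he⟩ := exists_disj (Ω := Ω) (k := 3) (by omega)
  have key : ∀ (i : Fin 3) (σ : Equiv.Perm (Fin 3)),
      ∃ g ∈ (⊤ : Subgroup G), Act (fun i a => φ (pr (e i) a)) g (Pi.mulSingle i σ) := by
    intro i σ
    obtain ⟨g, -, h, h'⟩ := exists_rel L (e i) σ
    refine ⟨g, mem_top _, fun j a => ?_⟩
    rcases eq_or_ne j i with rfl | hj
    · rw [Pi.mulSingle_eq_same]; exact h a
    · rw [Pi.mulSingle_eq_of_ne hj]
      exact h' (e j) (he i j hj.symm) a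
  exact no_act hr ⊤ _ (fun i => inj_pr L (e i)) (fun i => key i _) fun i => key i _

/-- **No block of six letters and a second block.** -/
theorem lt_six [Finite G] (hr : PRankLE 3 2 G) (L : Lett V R φ) {E N : Subgroup G} {d : Fin 3 → G} (T : Tri E N d)
    (h1 : R ≤ centralizer (N : Set G)) (h2 : E ≤ centralizer (V : Set G)) : Fintype.card Ω < 6 := by
  by_contra hcon
  obtain ⟨e, he⟩ := exists_disj (Ω := Ω) (k := 2) (by omega)
  set D : Fin 3 → Fin 3 → G := ![fun a => φ (pr (e 0) a), fun a => φ (pr (e 1) a), d] with hD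
  have k0 : ∀ (i : Fin 2) (j : Fin 2), i ≠ j → ∀ σ : Equiv.Perm (Fin 3),
      ∃ g : G, (∀ a, g * φ (pr (e i) a) * g⁻¹ = φ (pr (e i) (σ a))) ∧
        (∀ a, g * φ (pr (e j) a) * g⁻¹ = φ (pr (e j) a)) ∧ ∀ a, g * d a * g⁻¹ = d a := by
    intro i j hij σ
    obtain ⟨g, hg, h, h'⟩ := exists_rel L (e i) σ
    exact ⟨g, h, h' (e j) (he i j hij), fun a => cent (h1 hg) (T.mem a)⟩
  have k2 : ∀ σ : Equiv.Perm (Fin 3), (∃ g ∈ E, ∀ a, g * d a * g⁻¹ = d (σ a)) →
      ∃ g ∈ (⊤ : Subgroup G), Act D g (Pi.mulSingle 2 σ) := by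
    rintro σ ⟨g, hg, h⟩
    refine ⟨g, mem_top _, fun j a => ?_⟩
    fin_cases j
    · exact cent (h2 hg) (mem_pr L (e 0) a)
    · exact cent (h2 hg) (mem_pr L (e 1) a)
    · exact h a
  have k1 : ∀ (i : Fin 3) (σ : Equiv.Perm (Fin 3)), (i = 2 → ∃ g ∈ E, ∀ a, g * d a * g⁻¹ = d (σ a)) →
      ∃ g ∈ (⊤ : Subgroup G), Act D g (Pi.mulSingle i σ) := by
    intro i σ h
    fin_cases i
    · obtain ⟨g, a1, a2, a3⟩ := k0 0 1 (by decide) σ
      refine ⟨g, mem_top _, fun j a => ?_⟩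
      fin_cases j
      · exact a1 a
      · exact a2 a
      · exact a3 a
    · obtain ⟨g, a1, a2, a3⟩ := k0 1 0 (by decide) σ
      refine ⟨g, mem_top _, fun j a => ?_⟩
      fin_cases j
      · exact a2 a
      · exact a1 a
      · exact a3 a
    · exact k2 σ (h rfl)
  refine no_act hr ⊤ D (fun i => ?_) (fun i => k1 i _ fun _ => T.s) fun i => k1 i _ fun _ => T.t
  fin_cases i
  · exact inj_pr L (e 0)
  · exact inj_pr L (e 1)
  · exact T.inj

end lett

section dec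

variable {ι : Type v} {S L U R₀ : Subgroup G} {N E : ι → Subgroup G} {Ω : ι → Type w} [∀ b, Fintype (Ω b)]
  [∀ b, DecidableEq (Ω b)] {φ : ∀ b, Finset (Ω b) → G}

/-- **The blocks for `m_3(G) ≤ 2`.** -/
theorem small [Finite G] (hr : PRankLE 3 2 G) (h : Dec S L U N E R₀) (hL : ∀ b, Lett (N b) (E b) (φ b))
    (h3 : ∀ b, 3 ≤ Fintype.card (Ω b)) :
    (∀ a b c : ι, a ≠ b → a ≠ c → b ≠ c → False) ∧
      (∀ a b : ι, a ≠ b → Fintype.card (Ω a) = 3 ∨ Fintype.card (Ω a) = 5) ∧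
      ∀ a, Fintype.card (Ω a) = 3 ∨ Fintype.card (Ω a) = 5 ∨ Fintype.card (Ω a) = 7 := by
  have hT : ∀ b, ∃ d, Tri (E b) (N b) d := fun b => by
    obtain ⟨e⟩ := exists_emb (h3 b)
    exact ⟨_, tri (hL b) e⟩
  refine ⟨fun a b c hab hac hbc => ?_, fun a b hab => ?_, fun a => ?_⟩
  · choose d hd using hT
    refine three_blocks hr (fun i => E (![a, b, c] i)) (fun i => N (![a, b, c] i)) ?_
      (fun i => d (![a, b, c] i)) fun i => hd _
    intro i j hij
    refine h.EC _ _ fun he => hij ?_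
    have hi : Function.Injective ![a, b, c] := by
      intro x y hxy
      fin_cases x <;> fin_cases y
      · rfl
      · exact absurd hxy hab
      · exact absurd hxy hac
      · exact absurd hxy hab.symm
      · rfl
      · exact absurd hxy hbc
      · exact absurd hxy hac.symm
      · exact absurd hxy hbc.symm
      · rfl
    exact hi he
  · obtain ⟨d, hd⟩ := hT b
    have h1 := lt_six hr (hL a) hd (h.EC a b hab) (h.EC b a hab.symm)
    have h2 := (hL a).odd
    have h4 := h3 a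
    obtain ⟨m, hm⟩ := h2
    omega
  · have h1 := lt_nine hr (hL a)
    have h4 := h3 a
    obtain ⟨m, hm⟩ := (hL a).odd
    omega

end dec

end Cfsg.Agent.Omega.SQT.NoThree
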