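import Cfsg.Agent.Mrg.Omega.SQT.NoThree
import Cfsg.Agent.Mrg.Omega.NOThreeL.RRed.Blk.OneOf
import Cfsg.Agent.Mrg.Omega.NOThreeL.RRed.TvFin

section


/-!
# Project SQT: symmetric blocks with 3, 5 or 7 letters (helper949)

`Lett V R φ`, `T ≤ R` contains an `R`-conjugate of every 2-subgroup of `R`.

* `Lett.comp` : change of the letters; `exists_rel4` : `T` contains an element which acts as a given permutation `π`,
  `π ^ 4 = 1`, for a suitable numbering of the letters;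
* `two3`, `two5` : for three or five letters `C_V(T) ≤ {1, z}`;
* `four7` : for seven letters `C_V(T)` has at most four elements, and if `T ≤ S ≤ P` and `P` is minimal over `S`, then
  `P` fixes some `z ≠ 1` of `V` fixed by `S` as soon as `C_V(S)` has four elements.
-/

set_option autoImplicit false
set_option linter.unusedSectionVars false

namespace Cfsg.Agent.Omega.SQT.LettQ

open Subgroup Cfsg
open Cfsg.Agent.Omega.KL.TwoS (Rel Lett)
open Cfsg.Agent.Omega.NOThreeL.RRed.Blk (PermS mem_PermS eq_top_of_swap exists_perm)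

universe u v w

variable {G : Type u} [Group G]

section comp

variable {Ω : Type v} {Ω' : Type w} [Fintype Ω] [DecidableEq Ω] [Fintype Ω'] [DecidableEq Ω'] {V R : Subgroup G}
  {φ : Finset Ω → G}

theorem even_map (e : Ω' ≃ Ω) {s : Finset Ω'} : Even (s.map e.toEmbedding).card ↔ Even s.card := by
  rw [Finset.card_map]

/-- **Change of the letters.** -/
theorem comp (L : Lett V R φ) (e : Ω' ≃ Ω) : Lett V R fun s : Finset Ω' => φ (s.map e.toEmbedding) where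
  odd := by rw [Fintype.card_congr e]; exact L.odd
  mul s t := by
    rw [← L.mul]
    congr 1
    ext x
    simp only [Finset.mem_map_equiv, Finset.mem_symmDiff]
  inj s hs h := by
    have h1 := L.inj _ ((even_map e).2 hs) h
    exact Finset.map_eq_empty.1 h1
  mem x := by
    rw [L.mem]
    constructor
    · rintro ⟨s, hs, rfl⟩
      refine ⟨s.map e.symm.toEmbedding, (even_map e.symm).2 hs, ?_⟩
      congr 1
      ext y
      simp only [Finset.mem_map_equiv, Equiv.symm_symm, Equiv.apply_symm_apply]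
    · rintro ⟨s, hs, rfl⟩
      exact ⟨_, (even_map e).2 hs, rfl⟩
  act g hg := by
    obtain ⟨σ, hσ⟩ := L.act g hg
    refine ⟨(e.trans σ).trans e.symm, fun s hs => ?_⟩
    show g * φ (s.map e.toEmbedding) * g⁻¹ = φ ((s.map _).map e.toEmbedding)
    rw [hσ _ ((even_map e).2 hs)]
    congr 1
    ext y
    simp only [Finset.mem_map_equiv, Equiv.symm_trans_apply, Equiv.symm_symm, Equiv.apply_symm_apply]
  all σ := by
    obtain ⟨g, hg, h⟩ := L.all ((e.symm.trans σ).trans e)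
    refine ⟨g, hg, fun s hs => ?_⟩
    show g * φ (s.map e.toEmbedding) * g⁻¹ = φ ((s.map _).map e.toEmbedding)
    rw [h _ ((even_map e).2 hs)]
    congr 1
    ext y
    simp only [Finset.mem_map_equiv, Equiv.symm_trans_apply, Equiv.symm_symm, Equiv.symm_apply_apply]

theorem rel_comp (e : Ω' ≃ Ω) {g : G} {σ : Equiv.Perm Ω} (h : Rel φ g σ) :
    Rel (fun s : Finset Ω' => φ (s.map e.toEmbedding)) g ((e.trans σ).trans e.symm) := by
  intro s hs
  show g * φ (s.map e.toEmbedding) * g⁻¹ = φ ((s.map _).map e.toEmbedding)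
  rw [h _ ((even_map e).2 hs)]
  congr 1
  ext y
  simp only [Finset.mem_map_equiv, Equiv.symm_trans_apply, Equiv.symm_symm, Equiv.apply_symm_apply]

/-- a permutation `σ`, `σ ^ 4 = 1`, is induced by a 2-element -/
theorem exists_two4 [Finite G] {r : G} {σ : Equiv.Perm Ω} (hσ : σ ^ 4 = 1) (hr : Rel φ r σ) :
    ∃ r' ∈ zpowers r, IsPGroup 2 (zpowers r') ∧ Rel φ r' σ := by
  obtain ⟨k, m, ⟨j, hm⟩, hn⟩ := Nat.exists_eq_two_pow_mul_odd (orderOf_pos r).ne'
  refine ⟨r ^ (m * m), pow_mem (mem_zpowers r) _, ?_, ?_⟩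
  · intro x
    refine ⟨k, ?_⟩
    obtain ⟨x, hx⟩ := x
    obtain ⟨i, rfl⟩ := mem_zpowers_iff.1 hx
    apply Subtype.ext
    show ((r ^ (m * m)) ^ i) ^ 2 ^ k = 1
    have h1 : (r ^ (m * m)) ^ 2 ^ k = 1 := by
      rw [← pow_mul, show m * m * 2 ^ k = (2 ^ k * m) * m by ring, ← hn, pow_mul, pow_orderOf_eq_one, one_pow]
    rw [← zpow_natCast, ← zpow_mul, mul_comm i, zpow_mul, zpow_natCast, h1, one_zpow]
  · have h1 := hr.pow (m * m)
    have h2 : σ ^ (m * m) = σ := by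
      rw [hm, show (2 * j + 1) * (2 * j + 1) = 4 * (j * j + j) + 1 by ring, pow_succ, pow_mul, hσ, one_pow, one_mul]
    rwa [h2] at h1

/-- `T` contains a conjugate of every 2-subgroup of `R` -/
def SylR (T R : Subgroup G) : Prop :=
  ∀ Q : Subgroup G, Q ≤ R → IsPGroup 2 Q → ∃ e ∈ R, ∀ q ∈ Q, e * q * e⁻¹ ∈ T

theorem exists_rel4 [Finite G] (L : Lett V R φ) {T : Subgroup G} (hT : SylR T R) {n : ℕ}
    (hn : Fintype.card Ω = n) {π : Equiv.Perm (Fin n)} (hπ : π ^ 4 = 1) :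
    ∃ e : Fin n ≃ Ω, ∃ t ∈ T, Rel (fun s : Finset (Fin n) => φ (s.map e.toEmbedding)) t π := by
  have e := (Fintype.equivFinOfCardEq hn).symm
  have L' := comp L e
  obtain ⟨r, hr, h⟩ := L'.all π
  obtain ⟨r', hr', h2, h'⟩ := exists_two4 hπ h
  have hle : zpowers r' ≤ R := by
    rw [zpowers_le]
    exact (zpowers_le.2 hr) hr'
  obtain ⟨x, hx, h1⟩ := hT _ hle h2
  obtain ⟨σ, hσ⟩ := L.act x hx
  refine ⟨e.trans σ, x * r' * x⁻¹, h1 r' (mem_zpowers r'), fun s hs => ?_⟩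
  show x * r' * x⁻¹ * φ (s.map _) * (x * r' * x⁻¹)⁻¹ = φ ((s.map _).map _)
  have e1 : φ (s.map (e.trans σ).toEmbedding) = x * φ (s.map e.toEmbedding) * x⁻¹ := by
    rw [hσ _ ((even_map e).2 hs), Finset.map_map]
    rfl
  have e2 : φ ((s.map π.toEmbedding).map (e.trans σ).toEmbedding) =
      x * φ ((s.map π.toEmbedding).map e.toEmbedding) * x⁻¹ := by
    rw [hσ _ ((even_map e).2 ((even_map π).2 hs)), Finset.map_map (f := e.toEmbedding)]
    rfl
  have e3 : r' * φ (s.map e.toEmbedding) * r'⁻¹ = φ ((s.map π.toEmbedding).map e.toEmbedding) := h' s hs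
  rw [e1, e2, ← e3]
  group

end comp

/-! ### Three and five letters -/

theorem fix3 : ∀ s : Finset (Fin 3), s.map (Equiv.swap (0 : Fin 3) 1).toEmbedding = s → Even s.card →
    s = ∅ ∨ s = {0, 1} := by decide

/-- `(0 1 2 3)` -/
def c4 (n : ℕ) [NeZero n] : Equiv.Perm (Fin n) := Equiv.swap 0 1 * Equiv.swap 1 2 * Equiv.swap 2 3

theorem fix5 : ∀ s : Finset (Fin 5), s.map (c4 5).toEmbedding = s → Even s.card →
    s = ∅ ∨ s = {0, 1, 2, 3} := by decide

theorem c4_pow5 : (c4 5) ^ 4 = 1 := by decide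

/-- `(0 1 2 3)(4 5)` -/
def p7 : Equiv.Perm (Fin 7) := c4 7 * Equiv.swap 4 5

theorem p7_pow : p7 ^ 4 = 1 := by decide

set_option maxRecDepth 100000 in
theorem fix7 : ∀ s : Finset (Fin 7), s.map p7.toEmbedding = s → Even s.card →
    s = ∅ ∨ s = {0, 1, 2, 3} ∨ s = {4, 5} ∨ s = {0, 1, 2, 3, 4, 5} := by decide +kernel

section fixed

variable {Ω : Type v} [Fintype Ω] [DecidableEq Ω] {V R T : Subgroup G} {φ : Finset Ω → G}

theorem fix_of {Ω' : Type w} [Fintype Ω'] [DecidableEq Ω'] {ψ : Finset Ω' → G} (L : Lett V R ψ) {t : G}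
    {π : Equiv.Perm Ω'} (h : Rel ψ t π) {s : Finset Ω'} (hs : Even s.card) (hx : t * ψ s * t⁻¹ = ψ s) :
    s.map π.toEmbedding = s := by
  rw [h s hs] at hx
  exact L.phi_inj ((even_map π).2 hs) hs hx

/-- **Three or five letters: `C_V(T) ≤ {1, z}`.** -/
theorem two [Finite G] (L : Lett V R φ) (hT : SylR T R) (hn : Fintype.card Ω = 3 ∨ Fintype.card Ω = 5) :
    ∃ z : G, ∀ x ∈ V, (∀ t ∈ T, t * x * t⁻¹ = x) → x = 1 ∨ x = z := by
  rcases hn with hn | hn
  · obtain ⟨e, t, ht, h⟩ := exists_rel4 L hT hn (π := Equiv.swap (0 : Fin 3) 1) (by decide)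
    have L' := comp L e
    refine ⟨φ (({0, 1} : Finset (Fin 3)).map e.toEmbedding), fun x hx hfix => ?_⟩
    obtain ⟨s, hs, rfl⟩ := (L'.mem x).1 hx
    rcases fix3 s (fix_of L' h hs (hfix t ht)) hs with rfl | rfl
    · exact Or.inl L'.phi_empty
    · exact Or.inr rfl
  · obtain ⟨e, t, ht, h⟩ := exists_rel4 L hT hn c4_pow5
    have L' := comp L e
    refine ⟨φ (({0, 1, 2, 3} : Finset (Fin 5)).map e.toEmbedding), fun x hx hfix => ?_⟩
    obtain ⟨s, hs, rfl⟩ := (L'.mem x).1 hx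
    rcases fix5 s (fix_of L' h hs (hfix t ht)) hs with rfl | rfl
    · exact Or.inl L'.phi_empty
    · exact Or.inr rfl

end fixed

/-! ### Seven letters -/

section seven

variable {V R S P Z : Subgroup G} {ψ : Finset (Fin 7) → G}

/-- a transitive group on seven letters with a transposition -/
theorem top_of {H : Subgroup (Equiv.Perm (Fin 7))} (ht : ∀ a : Fin 7, ∃ σ ∈ H, σ 6 = a)
    (hs : ∃ a b : Fin 7, a ≠ b ∧ Equiv.swap a b ∈ H) : H = ⊤ := by
  classical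
  obtain ⟨a, b, hab, h⟩ := hs
  have : Fintype H := Fintype.ofFinite H
  refine Equiv.Perm.subgroup_eq_top_of_swap_mem (τ := Equiv.swap a b) ?_ ?_ h ⟨a, b, hab, rfl⟩
  · rw [Fintype.card_fin]; norm_num
  · have h1 : MulAction.orbit H (6 : Fin 7) = Set.univ := by
      ext x
      simp only [Set.mem_univ, iff_true]
      obtain ⟨σ, hσ, e⟩ := ht x
      exact ⟨⟨σ, hσ⟩, e⟩
    have h2 : (MulAction.orbit H (6 : Fin 7)).ncard ∣ Nat.card H := by
      have := MulAction.card_orbit_mul_card_stabilizer_eq_card_group H (6 : Fin 7)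
      rw [← Nat.card_eq_fintype_card, ← Nat.card_eq_fintype_card, ← Nat.card_eq_fintype_card] at this
      exact ⟨_, by rw [← this]; rfl⟩
    rw [h1, Set.ncard_univ, Nat.card_eq_fintype_card, Nat.card_eq_fintype_card] at h2
    convert h2

set_option maxRecDepth 100000 in
/-- the orbit of the last letter -/
theorem orbit7 : ∀ O : Finset (Fin 7), (6 : Fin 7) ∈ O → O.map p7.toEmbedding = O →
    O = Finset.univ ∨ Oᶜ = {0, 1, 2, 3} ∨ Oᶜ = {4, 5} ∨ Oᶜ = {0, 1, 2, 3, 4, 5} := by decide +kernel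

/-- the three nontrivial fixed sets -/
abbrev A4 : Finset (Fin 7) := {0, 1, 2, 3}
abbrev A2 : Finset (Fin 7) := {4, 5}
abbrev A6 : Finset (Fin 7) := {0, 1, 2, 3, 4, 5}

theorem mem_A6 : ∀ a : Fin 7, a ∈ A6 ↔ a ≠ 6 := by decide

theorem map_A6 {σ : Equiv.Perm (Fin 7)} (h : σ 6 = 6) : A6.map σ.toEmbedding = A6 := by
  ext x
  rw [Finset.mem_map_equiv, mem_A6, mem_A6, not_iff_not]
  rw [Equiv.symm_apply_eq, h]

theorem map_A2 : A2.map (Equiv.swap (0 : Fin 7) 6).toEmbedding = A2 := by decide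

theorem cent_iff {P : Subgroup G} {x : G} {g : G} : g ∈ P ⊓ centralizer ({x} : Set G) ↔ g ∈ P ∧ g * x * g⁻¹ = x := by
  rw [mem_inf, mem_centralizer_singleton_iff, mul_inv_eq_iff_eq_mul]

/-- `C_V(T)` has at most four elements -/
theorem card_le_four7 [Finite G] (L : Lett V R ψ) {t : G} (ht : t ∈ S) (hp : Rel ψ t p7)
    (hZ : Z ≤ V) (hZS : ∀ z ∈ Z, ∀ s ∈ S, s * z * s⁻¹ = z) : Nat.card Z ≤ 4 := by
  classical
  have hfin : (Z : Set G).Finite := Set.toFinite _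
  have h1 : hfin.toFinset ⊆ ({1, ψ A4, ψ A2, ψ A6} : Finset G) := by
    intro z hz
    rw [Set.Finite.mem_toFinset] at hz
    obtain ⟨s, hs, rfl⟩ := (L.mem z).1 (hZ hz)
    rcases fix7 s (fix_of L hp hs (hZS _ hz t ht)) hs with rfl | rfl | rfl | rfl
    · simp [L.phi_empty]
    · simp
    · simp
    · simp
  have h2 := (Finset.card_le_card h1).trans Finset.card_le_four
  rw [← Set.ncard_eq_toFinset_card _ hfin] at h2
  exact h2

theorem exists_fixed7 [Finite G] (L : Lett V R ψ) {t : G} (ht : t ∈ S) (hp : Rel ψ t p7)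
    (hsw : ∃ s ∈ S, ∃ a b : Fin 7, a ≠ b ∧ Rel ψ s (Equiv.swap a b)) (hSP : S ≤ P)
    (hP : ∃ M : Subgroup G, M < P ∧ ∀ K : Subgroup G, S ≤ K → K < P → K ≤ M) (hrel : ∀ g ∈ P, ∃ σ, Rel ψ g σ)
    (hZ : Z ≤ V) (hZS : ∀ z ∈ Z, ∀ s ∈ S, s * z * s⁻¹ = z) (h4 : 4 ≤ Nat.card Z) :
    ∃ x ∈ Z, x ≠ 1 ∧ ∀ g ∈ P, g * x * g⁻¹ = x := by
  classical
  have hall : ∀ z ∈ Z, z = 1 ∨ z = ψ A4 ∨ z = ψ A2 ∨ z = ψ A6 := by
    intro z hz
    obtain ⟨s, hs, rfl⟩ := (L.mem z).1 (hZ hz)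
    rcases fix7 s (fix_of L hp hs (hZS _ hz t ht)) hs with rfl | rfl | rfl | rfl
    · exact Or.inl L.phi_empty
    · exact Or.inr (Or.inl rfl)
    · exact Or.inr (Or.inr (Or.inl rfl))
    · exact Or.inr (Or.inr (Or.inr rfl))
  have hmem : ψ A4 ∈ Z ∧ ψ A2 ∈ Z ∧ ψ A6 ∈ Z := by
    have hfin : (Z : Set G).Finite := Set.toFinite _
    have h1 : hfin.toFinset ⊆ ({1, ψ A4, ψ A2, ψ A6} : Finset G) := by
      intro z hz
      rw [Set.Finite.mem_toFinset] at hz
      simpa using hall z hz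
    have h2 : ({1, ψ A4, ψ A2, ψ A6} : Finset G).card ≤ hfin.toFinset.card := by
      refine Finset.card_le_four.trans ?_
      rw [← Set.ncard_eq_toFinset_card _ hfin]
      exact h4
    have h3 := Finset.eq_of_subset_of_card_le h1 h2
    have h5 : ∀ z ∈ ({1, ψ A4, ψ A2, ψ A6} : Finset G), z ∈ Z := by
      intro z hz
      rw [← h3, Set.Finite.mem_toFinset] at hz
      exact hz
    exact ⟨h5 _ (by simp), h5 _ (by simp), h5 _ (by simp)⟩
  have hne : ∀ s : Finset (Fin 7), Even s.card → s ≠ ∅ → ψ s ≠ 1 := fun s hs h0 h1 => h0 (L.inj s hs h1)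
  by_contra hno
  push Not at hno
  have hmv : ∀ s : Finset (Fin 7), Even s.card → s ≠ ∅ → ψ s ∈ Z → ∃ σ ∈ PermS ψ P, s.map σ.toEmbedding ≠ s := by
    intro s hs h0 hsZ
    obtain ⟨g, hg, h⟩ := hno _ hsZ (hne s hs h0)
    obtain ⟨σ, hσ⟩ := hrel g hg
    refine ⟨σ, ⟨g, hg, hσ⟩, fun h1 => h ?_⟩
    rw [hσ s hs, h1]
  have e4 : Even (A4 : Finset (Fin 7)).card := by decide
  have e2 : Even (A2 : Finset (Fin 7)).card := by decide
  have e6 : Even (A6 : Finset (Fin 7)).card := by decide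
  -- transitivity
  have htr : ∀ a : Fin 7, ∃ σ ∈ PermS ψ P, σ 6 = a := by
    set O : Finset (Fin 7) := Finset.univ.filter fun a => ∃ σ ∈ PermS ψ P, σ 6 = a with hO
    have hmO : ∀ a, a ∈ O ↔ ∃ σ ∈ PermS ψ P, σ 6 = a := fun a => by simp [hO]
    have hinv : ∀ τ ∈ PermS ψ P, O.map τ.toEmbedding = O := by
      intro τ hτ
      ext x
      rw [Finset.mem_map_equiv, hmO, hmO]
      constructor
      · rintro ⟨σ, hσ, e⟩
        refine ⟨τ * σ, mul_mem hτ hσ, ?_⟩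
        rw [Equiv.Perm.mul_apply, e, Equiv.apply_symm_apply]
      · rintro ⟨σ, hσ, e⟩
        refine ⟨τ⁻¹ * σ, mul_mem (inv_mem hτ) hσ, ?_⟩
        rw [Equiv.Perm.mul_apply, e]
        rfl
    have hinv' : ∀ τ ∈ PermS ψ P, (Oᶜ).map τ.toEmbedding = Oᶜ := by
      intro τ hτ
      ext x
      rw [Finset.mem_map_equiv, Finset.mem_compl, Finset.mem_compl, ← Finset.mem_map_equiv, hinv τ hτ]
    have key : ∀ s : Finset (Fin 7), Even s.card → s ≠ ∅ → ψ s ∈ Z → Oᶜ ≠ s := by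
      rintro s hs h0 hsZ rfl
      obtain ⟨σ, hσ, h⟩ := hmv _ hs h0 hsZ
      exact h (hinv' σ hσ)
    rcases orbit7 O ((hmO 6).2 ⟨1, one_mem _, rfl⟩) (hinv p7 ⟨t, hSP ht, hp⟩) with h | h | h | h
    · intro a
      exact (hmO a).1 (by rw [h]; exact Finset.mem_univ a)
    · exact absurd h (key A4 e4 (by decide) hmem.1)
    · exact absurd h (key A2 e2 (by decide) hmem.2.1)
    · exact absurd h (key A6 e6 (by decide) hmem.2.2)
  have htop : PermS ψ P = ⊤ := by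
    obtain ⟨s, hs, a, b, hab, h⟩ := hsw
    exact top_of htr ⟨a, b, hab, s, hSP hs, h⟩
  obtain ⟨M, hMP, hM⟩ := hP
  have hK : ∀ s : Finset (Fin 7), Even s.card → s ≠ ∅ → ψ s ∈ Z → P ⊓ centralizer ({ψ s} : Set G) ≤ M := by
    intro s hs h0 hsZ
    refine hM _ (fun x hx => cent_iff.2 ⟨hSP hx, hZS _ hsZ x hx⟩) (lt_of_le_of_ne inf_le_left fun he => ?_)
    obtain ⟨g, hg, h⟩ := hno _ hsZ (hne s hs h0)
    rw [← he] at hg
    exact h (cent_iff.1 hg).2
  have hMs : ∀ s : Finset (Fin 7), Even s.card → s ≠ ∅ → ψ s ∈ Z → ∀ σ : Equiv.Perm (Fin 7),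
      s.map σ.toEmbedding = s → σ ∈ PermS ψ M := by
    intro s hs h0 hsZ σ hσ
    obtain ⟨k, hk, h⟩ : σ ∈ PermS ψ P := by rw [htop]; exact mem_top σ
    refine ⟨k, hK s hs h0 hsZ (cent_iff.2 ⟨hk, ?_⟩), h⟩
    rw [h s hs, hσ]
  have h6 : ∀ σ : Equiv.Perm (Fin 7), σ 6 = 6 → σ ∈ PermS ψ M := fun σ hσ =>
    hMs A6 e6 (by decide) hmem.2.2 σ (map_A6 hσ)
  have h06 : Equiv.swap (0 : Fin 7) 6 ∈ PermS ψ M := hMs A2 e2 (by decide) hmem.2.1 _ map_A2
  have hx6 : ∀ x : Fin 7, x ≠ 6 → Equiv.swap x 6 ∈ PermS ψ M := by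
    intro x hx
    have h1 : Equiv.swap (0 : Fin 7) x ∈ PermS ψ M :=
      h6 _ (Equiv.swap_apply_of_ne_of_ne (by decide) (Ne.symm hx))
    have h2 : Equiv.swap (Equiv.swap (0 : Fin 7) x 0) (Equiv.swap (0 : Fin 7) x 6) ∈ PermS ψ M := by
      rw [Equiv.swap_apply_apply]
      exact mul_mem (mul_mem h1 h06) (inv_mem h1)
    rwa [Equiv.swap_apply_left, Equiv.swap_apply_of_ne_of_ne (by decide) (Ne.symm hx)] at h2
  have hMtop : PermS ψ M = ⊤ := by
    apply eq_top_of_swap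
    intro x y hxy
    by_cases hx : x = 6
    · rw [hx, Equiv.swap_comm]; exact hx6 y fun h => hxy (hx.trans h.symm)
    by_cases hy : y = 6
    · rw [hy]; exact hx6 x hx
    exact h6 _ (Equiv.swap_apply_of_ne_of_ne (Ne.symm hx) (Ne.symm hy))
  refine hMP.not_ge fun g hg => ?_
  obtain ⟨σ, hσ⟩ := hrel g hg
  obtain ⟨k, hk, hkσ⟩ : σ ∈ PermS ψ M := by rw [hMtop]; exact mem_top σ
  have h1 : Rel ψ (k⁻¹ * g) 1 := by
    have := hkσ.inv.mul hσ
    rwa [inv_mul_cancel] at this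
  have h2 : k⁻¹ * g ∈ M := by
    refine hK A6 e6 (by decide) hmem.2.2 (cent_iff.2 ⟨mul_mem (inv_mem (hMP.le hk)) hg, ?_⟩)
    rw [h1 A6 e6, map_A6 rfl]
  have e1 : g = k * (k⁻¹ * g) := by group
  rw [e1]
  exact mul_mem hk h2

end seven

end Cfsg.Agent.Omega.SQT.LettQ

end

section


/-!
# Project SQT, box R of NO-3L: one class of `𝔽₂`-blocks, `m_3(G) ≤ 2` (helper949)

`m_3(G) ≤ 2`: one block with 3, 5, 7 letters, or two blocks with 3 or 5 letters.  If `V*` is irreducible for `M₀`, then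
`|Z| ≤ 2`, or there is one block with 7 letters, `|Z| = 4` and `C_Z(P) ≠ 1` for every `P ∈ P*(S)`.

* `sylR` : `S ∩ E b` is a Sylow subgroup of `E b`;
* `exists_swap_blocks` : two blocks, `V*` irreducible: `S` interchanges them;
* **`one_seven`** : `|Z| ≥ 4`: one block, with seven letters;
* **`seven_facts`** : then `|Z| = 4`, and every minimal parabolic subgroup centralises some `x ∈ Z#`;
* **`absurd_wide`** : `4 |C_Z(P)| ≤ |Z|` is impossible.
-/

set_option autoImplicit false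
set_option linter.unusedSectionVars false

namespace Cfsg.Agent.Omega.SQT.WideS

open Subgroup Cfsg Cfsg.Agent.ZN Cfsg.Agent.Omega.MinPar Cfsg.Agent.Omega.Frame Cfsg.Agent.Omega.FrameNOFF
open Cfsg.Agent.Omega.SQT.LettQ
open Cfsg.Agent.Omega.KL.TwoS (Rel Lett)
open Cfsg.Agent.Omega.NOThreeL.Merge (MZ)
open Cfsg.Agent.Omega.NOThreeL.RRed
open Cfsg.Agent.Omega.NOThreeL.RRed.Blk
open Cfsg.Agent.Omega.NOThreeL.RRed.TvFin (Full)
open scoped Pointwise

universe u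

variable {G : Type u} [Group G] [Finite G] {S : Sylow 2 G} {M V : Subgroup G} {I : Type u} {N E : I → Subgroup G}
  {R₀ : Subgroup G}

theorem sylR (hD : Dec (S : Subgroup G) M V N E R₀) (b : I) : SylR ((S : Subgroup G) ⊓ E b) (E b) :=
  fun _ hQ h2 => exists_conj_sub S hD.SL (iSup_le hD.EL) hD.iSup_normal (le_iSup E b) (hD.E_normal b) hQ h2

/-- the group which fixes `N b` -/
def KK (M : Subgroup G) (N : I → Subgroup G) (b : I) : Subgroup G := M ⊓ normalizer (N b : Set G)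

theorem mem_KK {b : I} {g : G} : g ∈ KK M N b ↔ g ∈ M ∧ MulAut.conj g • N b = N b := by
  unfold KK
  rw [mem_inf]
  refine and_congr_right fun _ => ?_
  rw [mem_normalizer_iff]
  constructor
  · intro h
    ext x
    constructor
    · rintro ⟨y, hy, rfl⟩
      exact (h y).1 hy
    · intro hx
      refine ⟨g⁻¹ * x * g, ?_, ?_⟩
      · have h1 := (h (g⁻¹ * x * g)).2
        rw [show g * (g⁻¹ * x * g) * g⁻¹ = x by group] at h1
        exact h1 hx
      · show g * (g⁻¹ * x * g) * g⁻¹ = x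
        group
  · intro h x
    exact conj_smul h

section twoblocks

variable (hD : Dec (S : Subgroup G) M V N E R₀) {b c : I} (hbc : b ≠ c) (hall : ∀ x, x = b ∨ x = c)
include hD hbc hall

theorem smul_of_not {g : G} (hg : g ∈ M) (h : g ∉ KK M N b) :
    MulAut.conj g • N b = N c ∧ MulAut.conj g • N c = N b := by
  obtain ⟨d, h1, -⟩ := hD.perm g hg b
  have hd : d = c := by
    rcases hall d with rfl | rfl
    · exact absurd (mem_KK.2 ⟨hg, h1⟩) h
    · rfl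
  subst hd
  obtain ⟨e, h2, -⟩ := hD.perm g hg d
  have he : e = b := by
    rcases hall e with rfl | rfl
    · rfl
    · exact absurd (hD.Ninj (smul_left_cancel _ (h2.trans h1.symm))).symm hbc
  subst he
  exact ⟨h1, h2⟩

theorem mul_mem_KK {g k : G} (hg : g ∈ M) (hk : k ∈ M) (h : g ∉ KK M N b) (h' : k ∉ KK M N b) :
    g * k ∈ KK M N b := by
  refine mem_KK.2 ⟨mul_mem hg hk, ?_⟩
  rw [map_mul, mul_smul, (smul_of_not hD hbc hall hk h').1, (smul_of_not hD hbc hall hg h).2]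

/-- if `M` moves the block `N b`, then `S` does -/
theorem exists_swap_blocks (hmv : ∃ g ∈ M, g ∉ KK M N b) : ∃ s ∈ (S : Subgroup G), s ∉ KK M N b := by
  obtain ⟨g, hg, hgK⟩ := hmv
  obtain ⟨k, m, ⟨j, hm⟩, hn⟩ := Nat.exists_eq_two_pow_mul_odd (orderOf_pos g).ne'
  have h2 : IsPGroup 2 (zpowers (g ^ m)) := by
    intro x
    refine ⟨k, ?_⟩
    obtain ⟨x, hx⟩ := x
    obtain ⟨i, rfl⟩ := mem_zpowers_iff.1 hx
    apply Subtype.ext
    show ((g ^ m) ^ i) ^ 2 ^ k = 1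
    have h1 : (g ^ m) ^ 2 ^ k = 1 := by
      rw [← pow_mul, mul_comm m, ← hn, pow_orderOf_eq_one]
    rw [← zpow_natCast, ← zpow_mul, mul_comm i, zpow_mul, zpow_natCast, h1, one_zpow]
  have hmK : g ^ m ∉ KK M N b := by
    intro h
    apply hgK
    have h1 : g * g ∈ KK M N b := mul_mem_KK hD hbc hall hg hg hgK hgK
    have h3 : g ^ m = (g * g) ^ j * g := by
      rw [hm, pow_succ, pow_mul, sq]
    rw [h3] at h
    exact (Subgroup.mul_mem_cancel_left _ (pow_mem h1 j)).1 h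
  have hle : zpowers (g ^ m) ≤ M := by
    rw [zpowers_le]
    exact pow_mem hg m
  obtain ⟨e, he, h4⟩ := exists_conj_sub S hD.SL le_rfl le_normalizer le_rfl le_normalizer hle h2
  have h5 := h4 _ (mem_zpowers _)
  refine ⟨_, (mem_inf.1 h5).1, fun h => hmK ?_⟩
  by_cases heK : e ∈ KK M N b
  · have h6 := mul_mem (mul_mem (inv_mem heK) h) heK
    rwa [show e⁻¹ * (e * g ^ m * e⁻¹) * e = g ^ m by group] at h6
  · have h7 : e⁻¹ * (e * g ^ m * e⁻¹) ∉ KK M N b := fun h8 =>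
      heK (inv_mem_iff.1 ((Subgroup.mul_mem_cancel_right _ h).1 h8))
    have h8 := mul_mem_KK hD hbc hall (mul_mem (inv_mem he) (mem_inf.1 h5).2) he h7 heK
    rwa [show e⁻¹ * (e * g ^ m * e⁻¹) * e = g ^ m by group] at h8

/-- two blocks of 3 or 5 letters interchanged by `S`: `|C_V(S)| ≤ 2` -/
theorem eq_of_two [Finite I] (hR : R₀ = ⊥) {s : G} (hs : s ∈ (S : Subgroup G)) (hsK : s ∉ KK M N b)
    {z0 : G} (h0 : ∀ x ∈ N b, (∀ t ∈ (S : Subgroup G) ⊓ E b, t * x * t⁻¹ = x) → x = 1 ∨ x = z0)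
    {x y : G} (hx : x ∈ V) (hy : y ∈ V) (hxS : ∀ s ∈ (S : Subgroup G), s * x * s⁻¹ = x)
    (hyS : ∀ s ∈ (S : Subgroup G), s * y * s⁻¹ = y) (x1 : x ≠ 1) (y1 : y ≠ 1) : x = y := by
  have key : ∀ x ∈ V, (∀ s ∈ (S : Subgroup G), s * x * s⁻¹ = x) →
      ∃ n, (n = 1 ∨ n = z0) ∧ IsC N R₀ b x n ∧ IsC N R₀ c x (s * n * s⁻¹) := by
    intro x hx hxS
    obtain ⟨n, hn⟩ := hD.ex_comp b hx
    refine ⟨n, h0 n hn.1 fun t ht => ?_, hn, ?_⟩
    · have h1 := hD.comp_conj (hD.SL (mem_inf.1 ht).1) (Blk.smul_of_mem (hD.EN b (mem_inf.1 ht).2)) hn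
      rw [hxS t (mem_inf.1 ht).1] at h1
      exact hD.uniq h1 hn
    · have h1 := hD.comp_conj (hD.SL hs) (smul_of_not hD hbc hall (hD.SL hs) hsK).1 hn
      rwa [hxS s hs] at h1
  have hsup : ∀ x ∈ V, x ∈ ⨆ b, N b := by
    intro x hx
    rwa [← hD.sup, hR, sup_bot_eq] at hx
  have hone : ∀ x ∈ V, IsC N R₀ b x 1 → IsC N R₀ c x (s * 1 * s⁻¹) → x = 1 := by
    intro x hx h1 h2
    refine hD.ext (hsup x hx) (one_mem _) fun d => ⟨1, ?_, hD.comp_one (one_mem _)⟩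
    rw [mul_one, mul_inv_cancel] at h2
    rcases hall d with rfl | rfl
    · exact h1
    · exact h2
  obtain ⟨n, hn, hnb, hnc⟩ := key x hx hxS
  obtain ⟨m, hm, hmb, hmc⟩ := key y hy hyS
  have hn0 : n = z0 := by
    rcases hn with rfl | h
    · exact absurd (hone x hx hnb hnc) x1
    · exact h
  have hm0 : m = z0 := by
    rcases hm with rfl | h
    · exact absurd (hone y hy hmb hmc) y1
    · exact h
  subst hn0
  subst hm0
  refine hD.ext (hsup x hx) (hsup y hy) fun d => ?_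
  rcases hall d with rfl | rfl
  · exact ⟨_, hnb, hmb⟩
  · exact ⟨_, hnc, hmc⟩

end twoblocks

section main

variable [Fintype I] {Om : I → Type u} [∀ i, Fintype (Om i)] [∀ i, DecidableEq (Om i)] {phi : ∀ i, Finset (Om i) → G}

theorem card_le_two {Z : Subgroup G} {z0 : G} (h : ∀ x ∈ Z, x = 1 ∨ x = z0) : Nat.card Z ≤ 2 := by
  classical
  have hfin : (Z : Set G).Finite := Set.toFinite _
  have h1 : hfin.toFinset ⊆ ({1, z0} : Finset G) := by
    intro z hz
    rw [Set.Finite.mem_toFinset] at hz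
    simpa using h z hz
  have h2 := (Finset.card_le_card h1).trans Finset.card_le_two
  rw [← Set.ncard_eq_toFinset_card _ hfin] at h2
  exact h2

/-- one block: `V = N b` -/
theorem eq_of_one (hD : Dec (S : Subgroup G) M V N E ⊥) {b : I} (hI : ∀ x, x = b) : V = N b := by
  refine le_antisymm ?_ (hD.NU b)
  rw [← hD.sup, sup_bot_eq]
  exact iSup_le fun c => by rw [hI c]

/-- **`|Z| ≥ 4`, `V` irreducible: one block, with seven letters.** -/
theorem one_seven (hr : PRankLE 3 2 G) (F : Full (S : Subgroup G) M V N E ⊥ Om phi) (hne : Nonempty I)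
    (hirr : ∀ b, M ≤ normalizer (N b : Set G) → V ≤ N b) {Z : Subgroup G} (hZV : Z ≤ V)
    (hZS : ∀ z ∈ Z, ∀ s ∈ (S : Subgroup G), s * z * s⁻¹ = z) (h4 : 4 ≤ Nat.card Z) :
    (∀ a b : I, a = b) ∧ ∀ b, Fintype.card (Om b) = 7 := by
  classical
  have hD := F.toDec
  obtain ⟨s1, s2, s3⟩ := NoThree.small hr hD F.lett F.three
  obtain ⟨b⟩ := hne
  by_cases hI : ∀ x, x = b
  · refine ⟨fun x y => (hI x).trans (hI y).symm, fun c => ?_⟩
    rw [hI c]
    have hZN : Z ≤ N b := hZV.trans (eq_of_one hD hI).le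
    rcases s3 b with h3 | h5 | h7
    · obtain ⟨z, hz⟩ := two (F.lett b) (sylR hD b) (Or.inl h3)
      have := card_le_two (Z := Z) (z0 := z) fun x hx => hz x (hZN hx) fun t ht => hZS x hx t (mem_inf.1 ht).1
      omega
    · obtain ⟨z, hz⟩ := two (F.lett b) (sylR hD b) (Or.inr h5)
      have := card_le_two (Z := Z) (z0 := z) fun x hx => hz x (hZN hx) fun t ht => hZS x hx t (mem_inf.1 ht).1
      omega
    · exact h7
  · exfalso
    push Not at hI
    obtain ⟨c, hcb⟩ := hI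
    have hall : ∀ x, x = b ∨ x = c := by
      intro x
      by_contra hx
      push Not at hx
      exact s1 b c x hcb.symm hx.1.symm hx.2.symm
    have hmv : ∃ g ∈ M, g ∉ KK M N b := by
      by_contra hno
      push Not at hno
      have h1 : M ≤ normalizer (N b : Set G) := fun g hg => (mem_inf.1 (hno g hg)).2
      have h2 := hirr b h1
      apply hD.ne c
      rw [eq_bot_iff, ← hD.ind c]
      exact le_inf le_rfl (((hD.NU c).trans h2).trans (hD.N_le_Co hcb.symm))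
    obtain ⟨s, hs, hsK⟩ := exists_swap_blocks hD hcb.symm hall hmv
    obtain ⟨z0, hz0⟩ := two (F.lett b) (sylR hD b) (s2 b c hcb.symm)
    have h2 : Nat.card Z ≤ 2 := by
      by_cases hZ1 : ∃ x ∈ Z, x ≠ 1
      · obtain ⟨x, hx, x1⟩ := hZ1
        refine card_le_two (z0 := x) fun y hy => ?_
        by_cases hy1 : y = 1
        · exact Or.inl hy1
        · exact Or.inr (eq_of_two hD hcb.symm hall rfl hs hsK hz0 (hZV hy) (hZV hx) (hZS y hy) (hZS x hx) hy1 x1)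
      · push Not at hZ1
        exact card_le_two (z0 := 1) fun y hy => Or.inl (hZ1 y hy)
    omega

/-- one block with seven letters, `Z ≤ C_V(S)`: `|Z| ≤ 4`, and if `|Z| = 4`, then every minimal parabolic subgroup
centralises some `x ∈ Z#` -/
theorem seven_facts (F : Full (S : Subgroup G) M V N E ⊥ Om phi) {b : I} (hI : ∀ x, x = b)
    (h7 : Fintype.card (Om b) = 7) {Z : Subgroup G} (hZV : Z ≤ V)
    (hZS : ∀ z ∈ Z, ∀ s ∈ (S : Subgroup G), s * z * s⁻¹ = z) :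
    Nat.card Z ≤ 4 ∧ (Nat.card Z = 4 → ∀ P ≤ M, (S : Subgroup G) ≤ P →
      (∃ M : Subgroup G, M < P ∧ ∀ K : Subgroup G, (S : Subgroup G) ≤ K → K < P → K ≤ M) →
      ∃ x ∈ Z, x ≠ 1 ∧ x ∈ centralizer (P : Set G)) := by
  classical
  have hD := F.toDec
  have hZN : Z ≤ N b := hZV.trans (eq_of_one hD hI).le
  obtain ⟨e, t, ht, hrel⟩ := exists_rel4 (F.lett b) (sylR hD b) h7 p7_pow
  have L' := comp (F.lett b) e
  obtain ⟨s, hs, a, a', haa, hsw⟩ := Blk.exists_swap L' (by rw [Fintype.card_fin]; norm_num) (sylR hD b)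
  refine ⟨card_le_four7 (Z := Z) L' (mem_inf.1 ht).1 hrel hZN hZS, fun h4 P hPM hSP hP => ?_⟩
  have hrelP : ∀ g ∈ P, ∃ σ, Rel (fun s : Finset (Fin 7) => phi b (s.map e.toEmbedding)) g σ := by
    intro g hg
    obtain ⟨c, h1, -⟩ := hD.perm g (hPM hg) b
    rw [hI c] at h1
    obtain ⟨σ, hσ⟩ := F.rel_of_fix (hPM hg) h1
    exact ⟨_, rel_comp e hσ⟩
  obtain ⟨x, hx, x1, hxP⟩ := exists_fixed7 (Z := Z) L' (mem_inf.1 ht).1 hrel
    ⟨s, (mem_inf.1 hs).1, a, a', haa, hsw⟩ hSP hP hrelP hZN hZS h4.ge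
  refine ⟨x, hx, x1, ?_⟩
  rw [mem_centralizer_iff]
  intro g hg
  have := hxP g hg
  rwa [mul_inv_eq_iff_eq_mul] at this

/-- **`4 |C_Z(P)| ≤ |Z|` is impossible** for a group `Z ≤ C_V(S)`. -/
theorem absurd_wide (hr : PRankLE 3 2 G) (F : Full (S : Subgroup G) M V N E ⊥ Om phi) (hne : Nonempty I)
    (hirr : ∀ b, M ≤ normalizer (N b : Set G) → V ≤ N b) {Z P : Subgroup G} (hZV : Z ≤ V)
    (hZS : ∀ z ∈ Z, ∀ s ∈ (S : Subgroup G), s * z * s⁻¹ = z) (hPM : P ≤ M) (hSP : (S : Subgroup G) ≤ P)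
    (hP : ∃ M : Subgroup G, M < P ∧ ∀ K : Subgroup G, (S : Subgroup G) ≤ K → K < P → K ≤ M)
    (hw : 4 * Nat.card (Z ⊓ centralizer (P : Set G) : Subgroup G) ≤ Nat.card Z) : False := by
  classical
  have hc1 : 1 ≤ Nat.card (Z ⊓ centralizer (P : Set G) : Subgroup G) := Nat.card_pos
  obtain ⟨h1, h7⟩ := one_seven hr F hne hirr hZV hZS (by omega)
  obtain ⟨b⟩ := hne
  obtain ⟨h2, h3⟩ := seven_facts F (fun x => h1 x b) (h7 b) hZV hZS
  obtain ⟨x, hx, x1, hxP⟩ := h3 (by omega) P hPM hSP hP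
  have h8 : 2 ≤ Nat.card (Z ⊓ centralizer (P : Set G) : Subgroup G) := by
    have hnt : Nontrivial (Z ⊓ centralizer (P : Set G) : Subgroup G) :=
      ⟨⟨⟨x, mem_inf.2 ⟨hx, hxP⟩⟩, 1, fun h => x1 (congrArg Subtype.val h)⟩⟩
    exact Finite.one_lt_card_iff_nontrivial.2 hnt
  omega

end main

end Cfsg.Agent.Omega.SQT.WideS

end
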