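import Cfsg.Agent.Mrg.Omega.Sec.Faithful
import Cfsg.Agent.OddOrderLocal.RankTwoRep
import Cfsg.Agent.Mrg.Omega.NO3S.SN2.VPlus.Sym

section


/-!
# A group of 3-rank at most 2 has no quotient `S₃ × S₃ × S₃`

* `two_gen` : a 2-subgroup of `GL₂(3)` has no quotient of order 8 and exponent 2;
* `no_surj` : `PRankLE 3 2 Γ` implies that there is no epimorphism `Γ → S₃³` (any kernel);
* `no_act` : the same for a subgroup `X` of `G` acting on three disjoint triples.
-/

set_option autoImplicit false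

namespace Cfsg.Agent.Omega.SQT.RankThree

open Subgroup Cfsg

/-! ### `GL₂(3)` -/

set_option synthInstance.maxHeartbeats 400000 in
set_option synthInstance.maxSize 2000 in
set_option maxRecDepth 100000 in
theorem entries : ∀ x y z w : ZMod 3, x * x + y * z = 1 → x * y + y * w = 0 → z * x + w * z = 0 →
    z * y + w * w = 1 → ¬ (x = 1 ∧ y = 0 ∧ z = 0 ∧ w = 1) → ¬ (x = -1 ∧ y = 0 ∧ z = 0 ∧ w = -1) →
    ∀ x' y' z' w' : ZMod 3, x' * x' + y' * z' = 1 → x' * y' + y' * w' = 0 → z' * x' + w' * z' = 0 →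
    z' * y' + w' * w' = 1 → x * x' + y * z' = x' * x + y' * z → x * y' + y * w' = x' * y + y' * w →
    z * x' + w * z' = z' * x + w' * z → z * y' + w * w' = z' * y + w' * w →
    (x' = 1 ∧ y' = 0 ∧ z' = 0 ∧ w' = 1) ∨ (x' = -1 ∧ y' = 0 ∧ z' = 0 ∧ w' = -1) ∨
      (x' = x ∧ y' = y ∧ z' = z ∧ w' = w) ∨ (x' = -x ∧ y' = -y ∧ z' = -z ∧ w' = -w) := by
  decide

abbrev M2 := Matrix (Fin 2) (Fin 2) (ZMod 3)

theorem mat_eq {a b : M2} (h0 : a 0 0 = b 0 0) (h1 : a 0 1 = b 0 1) (h2 : a 1 0 = b 1 0)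
    (h3 : a 1 1 = b 1 1) : a = b := by
  ext i j
  fin_cases i <;> fin_cases j <;> assumption

theorem mat_comm {a b : M2} (ha : a * a = 1) (hb : b * b = 1) (hab : a * b = b * a) (h1 : a ≠ 1)
    (h2 : a ≠ -1) : b = 1 ∨ b = -1 ∨ b = a ∨ b = -a := by
  have ent : ∀ (c d : M2) (i j : Fin 2), (c * d) i j = c i 0 * d 0 j + c i 1 * d 1 j := by
    intro c d i j
    rw [Matrix.mul_apply, Fin.sum_univ_two]
  have e : ∀ {c d : M2}, c = d → ∀ i j, c i j = d i j := fun h i j => by rw [h]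
  have a00 := e ha 0 0
  have a01 := e ha 0 1
  have a10 := e ha 1 0
  have a11 := e ha 1 1
  have b00 := e hb 0 0
  have b01 := e hb 0 1
  have b10 := e hb 1 0
  have b11 := e hb 1 1
  have c00 := e hab 0 0
  have c01 := e hab 0 1
  have c10 := e hab 1 0
  have c11 := e hab 1 1
  rw [ent] at a00 a01 a10 a11 b00 b01 b10 b11 c00 c01 c10 c11
  rw [ent] at c00 c01 c10 c11
  have o00 : (1 : M2) 0 0 = 1 := rfl
  have o01 : (1 : M2) 0 1 = 0 := rfl
  have o10 : (1 : M2) 1 0 = 0 := rfl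
  have o11 : (1 : M2) 1 1 = 1 := rfl
  have n00 : (-1 : M2) 0 0 = -1 := rfl
  have n01 : (-1 : M2) 0 1 = 0 := rfl
  have n10 : (-1 : M2) 1 0 = 0 := rfl
  have n11 : (-1 : M2) 1 1 = -1 := rfl
  rw [o00] at a00 b00
  rw [o01] at a01 b01
  rw [o10] at a10 b10
  rw [o11] at a11 b11
  rcases entries (a 0 0) (a 0 1) (a 1 0) (a 1 1) a00 a01 a10 a11
    (fun h => h1 (mat_eq h.1 h.2.1 h.2.2.1 h.2.2.2)) (fun h => h2 (mat_eq h.1 h.2.1 h.2.2.1 h.2.2.2))
    (b 0 0) (b 0 1) (b 1 0) (b 1 1) b00 b01 b10 b11 c00 c01 c10 c11 with h | h | h | h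
  · exact Or.inl (mat_eq h.1 h.2.1 h.2.2.1 h.2.2.2)
  · exact Or.inr (Or.inl (mat_eq h.1 h.2.1 h.2.2.1 h.2.2.2))
  · exact Or.inr (Or.inr (Or.inl (mat_eq h.1 h.2.1 h.2.2.1 h.2.2.2)))
  · exact Or.inr (Or.inr (Or.inr (mat_eq h.1 h.2.1 h.2.2.1 h.2.2.2)))

theorem card_le_four (F : Subgroup M2ˣ) (h1 : ∀ a ∈ F, a * a = 1)
    (h2 : ∀ a ∈ F, ∀ b ∈ F, a * b = b * a) : Nat.card F ≤ 4 := by
  classical
  have key : ∃ a : M2ˣ, (F : Set M2ˣ) ⊆ {1, -1, a, -a} := by
    by_cases hc : ∃ a ∈ F, a ≠ 1 ∧ a ≠ -1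
    · obtain ⟨a, ha, ha1, ha2⟩ := hc
      refine ⟨a, fun b hb => ?_⟩
      have e1 : (a : M2) * a = 1 := by
        have := congrArg Units.val (h1 a ha)
        exact this
      have e2 : (b : M2) * b = 1 := congrArg Units.val (h1 b hb)
      have e3 : (a : M2) * b = b * a := congrArg Units.val (h2 a ha b hb)
      have n1 : (a : M2) ≠ 1 := fun h => ha1 (Units.ext h)
      have n2 : (a : M2) ≠ -1 := fun h => ha2 (Units.ext h)
      rcases mat_comm e1 e2 e3 n1 n2 with h | h | h | h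
      · exact Or.inl (Units.ext h)
      · exact Or.inr (Or.inl (Units.ext h))
      · exact Or.inr (Or.inr (Or.inl (Units.ext h)))
      · exact Or.inr (Or.inr (Or.inr (Units.ext h)))
    · push Not at hc
      refine ⟨1, fun b hb => ?_⟩
      by_cases hb1 : b = 1
      · exact Or.inl hb1
      · exact Or.inr (Or.inl (hc b hb hb1))
  obtain ⟨a, ha⟩ := key
  have e1 : Nat.card F = (F : Set M2ˣ).ncard := rfl
  rw [e1]
  have h4 : ({1, -1, a, -a} : Set M2ˣ) = (({1, -1, a, -a} : Finset M2ˣ) : Set M2ˣ) := by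
    ext x; simp
  calc (F : Set M2ˣ).ncard ≤ ({1, -1, a, -a} : Set M2ˣ).ncard := Set.ncard_le_ncard ha (Set.toFinite _)
    _ = ({1, -1, a, -a} : Finset M2ˣ).card := by rw [h4, Set.ncard_coe_finset]
    _ ≤ 4 := Finset.card_le_four

theorem card_gl : Nat.card M2ˣ = 48 := by
  have := Matrix.card_GL_field (𝔽 := ZMod 3) 2
  have e : Nat.card (GL (Fin 2) (ZMod 3)) = 48 := by
    rw [this, Fin.prod_univ_two]
    simp
  exact e

/-- An element of order 8. -/
theorem exists_eight : ∃ g : M2ˣ, orderOf g = 8 := by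
  have h1 : (!![0, 1; 1, 2] : M2) * !![1, 1; 1, 0] = 1 := by decide
  have h2 : (!![1, 1; 1, 0] : M2) * !![0, 1; 1, 2] = 1 := by decide
  let g : M2ˣ := ⟨!![0, 1; 1, 2], !![1, 1; 1, 0], h1, h2⟩
  refine ⟨g, ?_⟩
  have h4 : g ^ 2 ^ 2 ≠ 1 := by
    intro h
    have := congrArg Units.val h
    rw [Units.val_pow_eq_pow_val] at this
    change (!![0, 1; 1, 2] : M2) ^ 2 ^ 2 = 1 at this
    revert this
    decide
  have h8 : g ^ 2 ^ (2 + 1) = 1 := by
    apply Units.ext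
    rw [Units.val_pow_eq_pow_val]
    change (!![0, 1; 1, 2] : M2) ^ 2 ^ (2 + 1) = 1
    decide
  exact orderOf_eq_prime_pow h4 h8

theorem sq_eq_one (s : Fin 3 → ℤˣ) : s * s = 1 := by
  ext j
  simp

/-- A 2-subgroup of `GL₂(3)` has no quotient of order 8 and exponent 2. -/
theorem two_gen {B : Type*} [Group B] [Finite B] (hB : IsPGroup 2 B) (f : B →* M2)
    (ψ : B →* (Fin 3 → ℤˣ)) (hψ : Function.Surjective ψ) (hk : ∀ b, f b = 1 → ψ b = 1) : False := by
  classical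
  have h2 : Fact (Nat.Prime 2) := ⟨Nat.prime_two⟩
  let f' : B →* M2ˣ := f.toHomUnits
  have hf' : ∀ b, (f' b : M2) = f b := fun b => MonoidHom.coe_toHomUnits f b
  have hle : f'.ker ≤ ψ.ker := fun b hb => MonoidHom.mem_ker.mpr (hk b (by
    rw [← hf', MonoidHom.mem_ker.mp hb]; rfl))
  have hi : ψ.ker.index = 8 := by
    rw [Subgroup.index_ker, MonoidHom.range_eq_top.mpr hψ, Subgroup.card_top, Nat.card_pi]
    simp
  have hif : f'.ker.index = Nat.card f'.range := Subgroup.index_ker f'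
  have hrel : f'.ker.relIndex ψ.ker * 8 = f'.ker.index := by
    rw [← hi]; exact relIndex_mul_index hle
  have hFp : IsPGroup 2 f'.range := hB.of_surjective f'.rangeRestrict f'.rangeRestrict_surjective
  obtain ⟨k, hk'⟩ := IsPGroup.iff_card.mp hFp
  have hd : Nat.card f'.range ∣ 48 := by rw [← card_gl]; exact Subgroup.card_subgroup_dvd_card _
  have hsq : ∀ b : B, b * b ∈ ψ.ker := fun b => MonoidHom.mem_ker.mpr (by
    rw [map_mul]; exact sq_eq_one _)
  have hcm : ∀ a b : B, a * b * (b * a)⁻¹ ∈ ψ.ker := fun a b => MonoidHom.mem_ker.mpr (by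
    rw [map_mul, map_inv, map_mul, map_mul, mul_comm (ψ b), mul_inv_cancel])
  have hk4 : k ≤ 4 := by
    rw [hk'] at hd
    by_contra hc
    have h5 : 2 ^ 5 ∣ 48 := (pow_dvd_pow 2 (by omega : 5 ≤ k)).trans hd
    norm_num at h5
  have hk3 : 3 ≤ k := by
    by_contra hc
    have h5 : 2 ^ k < 8 := by
      calc 2 ^ k ≤ 2 ^ 2 := Nat.pow_le_pow_right (by norm_num) (by omega)
        _ < 8 := by norm_num
    have h6 : 0 < f'.ker.relIndex ψ.ker := Nat.pos_of_ne_zero fun h => by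
      rw [h, zero_mul] at hrel
      rw [← hrel] at hif
      exact Nat.card_pos.ne' hif.symm
    have h7 : f'.ker.index < 8 := by rw [hif, hk']; exact h5
    omega
  have hk34 : k = 3 ∨ k = 4 := by omega
  rcases hk34 with rfl | rfl
  · -- the kernels coincide
    have h5 : f'.ker.relIndex ψ.ker = 1 := by
      rw [hif, hk'] at hrel
      omega
    have h6 : ψ.ker ≤ f'.ker := relIndex_eq_one.mp h5
    have h7 := card_le_four f'.range (by
      rintro _ ⟨b, rfl⟩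
      rw [← map_mul]
      exact MonoidHom.mem_ker.mp (h6 (hsq b))) (by
      rintro _ ⟨a, rfl⟩ _ ⟨b, rfl⟩
      have := MonoidHom.mem_ker.mp (h6 (hcm a b))
      rw [map_mul, map_inv, mul_inv_eq_one, map_mul, map_mul] at this
      exact this)
    rw [hk'] at h7
    norm_num at h7
  · -- a Sylow 2-subgroup
    have h5 : f'.ker.relIndex ψ.ker = 2 := by
      rw [hif, hk'] at hrel
      omega
    have hni : ¬ 2 ∣ f'.range.index := by
      intro hd2
      have h6 := f'.range.card_mul_index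
      rw [card_gl, hk'] at h6
      omega
    let F : Sylow 2 M2ˣ := hFp.toSylow hni
    obtain ⟨g, hg⟩ := exists_eight
    have hgp : IsPGroup 2 (zpowers g) := by
      rw [IsPGroup.iff_card, Nat.card_zpowers, hg]
      exact ⟨3, by norm_num⟩
    obtain ⟨T, hT⟩ := hgp.exists_le_sylow
    obtain ⟨x, hx⟩ := MulAction.exists_smul_eq M2ˣ T F
    have h6 : x * g * x⁻¹ ∈ (F : Subgroup M2ˣ) := by
      rw [← hx]
      exact Subgroup.smul_mem_pointwise_smul _ (MulAut.conj x) (T : Subgroup M2ˣ) (hT (mem_zpowers _))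
    obtain ⟨b, hb⟩ : x * g * x⁻¹ ∈ f'.range := h6
    have h7 : (b * b) * (b * b) ∈ f'.ker := by
      have h8 := Subgroup.sq_mem_of_index_two (H := f'.ker.subgroupOf ψ.ker) h5 ⟨b * b, hsq b⟩
      rw [mem_subgroupOf] at h8
      rw [← pow_two]
      exact h8
    have h8 : g ^ 4 = 1 := by
      have h9 : f' ((b * b) * (b * b)) = x * g ^ 4 * x⁻¹ := by
        have h10 : ∀ a : M2ˣ, (a * a) * (a * a) = a ^ 4 := fun a => by
          rw [← pow_two, ← pow_two, ← pow_mul]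
        rw [map_mul, map_mul, hb, h10, conj_pow]
      rw [MonoidHom.mem_ker.mp h7] at h9
      calc g ^ 4 = x⁻¹ * (x * g ^ 4 * x⁻¹) * x := by group
        _ = 1 := by rw [← h9]; group
    have h9 := orderOf_dvd_of_pow_eq_one h8
    rw [hg] at h9
    norm_num at h9

/-! ### Quotients `S₃³` -/

open Cfsg.Agent.Omega.SQT.RankAbs

/-- A group of 3-rank at most 2 has no quotient `S₃ × S₃ × S₃`. -/
theorem no_surj {Γ : Type*} [Group Γ] [Finite Γ] (hr : PRankLE 3 2 Γ)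
    (φ : Γ →* (Fin 3 → Equiv.Perm (Fin 3))) (hφ : Function.Surjective φ) : False := by
  classical
  have h2 : Fact (Nat.Prime 2) := ⟨Nat.prime_two⟩
  have h3 : Fact (Nat.Prime 3) := ⟨Nat.prime_three⟩
  -- the signs
  let sg : (Fin 3 → Equiv.Perm (Fin 3)) →* (Fin 3 → ℤˣ) :=
    { toFun := fun σ j => Equiv.Perm.sign (σ j)
      map_one' := by ext j; simp
      map_mul' := by intro σ τ; ext j; simp }
  have hsg : Function.Surjective sg := by
    intro s
    choose f hf using fun j => Equiv.Perm.sign_surjective (Fin 3) (s j)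
    exact ⟨f, funext hf⟩
  set ψ : Γ →* (Fin 3 → ℤˣ) := sg.comp φ with hψ
  have hψs : Function.Surjective ψ := hsg.comp hφ
  set Y : Subgroup Γ := ψ.ker with hY
  have memY : ∀ g : Γ, g ∈ Y ↔ ∀ j, Equiv.Perm.sign (φ g j) = 1 := by
    intro g
    rw [hY, MonoidHom.mem_ker]
    constructor
    · intro h j
      exact congrFun h j
    · intro h
      exact funext h
  -- a Sylow 3-subgroup of `Y`
  obtain ⟨R0⟩ : Nonempty (Sylow 3 Y) := inferInstance
  set R : Subgroup Γ := (R0 : Subgroup Y).map Y.subtype with hR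
  have hRp : IsPGroup 3 R := R0.isPGroup'.map _
  have hfr : normalizer (R : Set Γ) ⊔ Y = ⊤ := Sylow.normalizer_sup_eq_top R0
  -- `R` covers the 3-cycles
  have hcov : ∀ j, ∃ z ∈ R, Equiv.Perm.sign (φ z j) = 1 ∧ φ z j ≠ 1 := by
    intro j
    obtain ⟨c, hc1, hc2, hc3⟩ := exists_cyc
    obtain ⟨y, hy⟩ := hφ (Pi.mulSingle j c)
    have hyY : y ∈ Y := by
      rw [memY]
      intro i
      rw [hy]
      by_cases h : i = j
      · subst h; rw [Pi.mulSingle_eq_same]; exact hc1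
      · rw [Pi.mulSingle_apply, if_neg h, map_one]
    -- the 3-part of `y`
    obtain ⟨a, l, hl, hal⟩ := Nat.exists_eq_pow_mul_and_not_dvd (n := orderOf y) (orderOf_pos y).ne' 3
      (by norm_num)
    set x : Γ := y ^ l with hx
    have hx3 : x ^ 3 ^ a = 1 := by
      rw [hx, ← pow_mul, mul_comm, ← hal, pow_orderOf_eq_one]
    have hxY : x ∈ Y := Y.pow_mem hyY l
    have hxp : IsPGroup 3 (zpowers (⟨x, hxY⟩ : Y)) := by
      rw [IsPGroup.iff_card, Nat.card_zpowers]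
      have h4 : orderOf (⟨x, hxY⟩ : Y) ∣ 3 ^ a := orderOf_dvd_of_pow_eq_one (Subtype.ext hx3)
      obtain ⟨k, -, hk⟩ := (Nat.dvd_prime_pow Nat.prime_three).1 h4
      exact ⟨k, hk⟩
    obtain ⟨T, hT⟩ := hxp.exists_le_sylow
    obtain ⟨g, hg⟩ := MulAction.exists_smul_eq Y T R0
    have h5 : g * ⟨x, hxY⟩ * g⁻¹ ∈ (R0 : Subgroup Y) := by
      rw [← hg]
      exact Subgroup.smul_mem_pointwise_smul _ (MulAut.conj g) (T : Subgroup Y) (hT (mem_zpowers _))
    refine ⟨(g : Γ) * x * (g : Γ)⁻¹, ⟨_, h5, rfl⟩, ?_⟩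
    have h6 : φ ((g : Γ) * x * (g : Γ)⁻¹) j = c ^ l := by
      rw [map_mul, map_mul, map_inv, hx, map_pow, hy]
      change φ g j * ((Pi.mulSingle j c : Fin 3 → Equiv.Perm (Fin 3)) ^ l) j * (φ g j)⁻¹ = c ^ l
      rw [Pi.pow_apply, Pi.mulSingle_eq_same]
      have h7 : Equiv.Perm.sign (φ g j) = 1 := (memY g).1 g.2 j
      have h8 : Equiv.Perm.sign (c ^ l) = 1 := by rw [map_pow, hc1, one_pow]
      rw [perm_comm _ _ h7 h8, mul_inv_cancel_right]
    refine ⟨by rw [h6, map_pow, hc1, one_pow], ?_⟩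
    rw [h6]
    intro h7
    have h8 := orderOf_dvd_of_pow_eq_one h7
    rw [hc3] at h8
    exact hl h8
  -- a Sylow 2-subgroup of `N(R)`
  set N : Subgroup Γ := normalizer (R : Set Γ) with hN
  obtain ⟨B0⟩ : Nonempty (Sylow 2 N) := inferInstance
  have hNs : Function.Surjective (ψ.comp N.subtype) := by
    intro s
    obtain ⟨g, hg⟩ := hψs s
    have h4 : g ∈ ((N ⊔ Y : Subgroup Γ) : Set Γ) := by rw [hfr]; trivial
    have hYn : Y.Normal := MonoidHom.normal_ker ψ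
    rw [mul_normal] at h4
    obtain ⟨n, hn, y, hy, rfl⟩ := h4
    refine ⟨⟨n, hn⟩, ?_⟩
    change ψ n = s
    rw [← hg]
    change ψ n = ψ (n * y)
    rw [map_mul, MonoidHom.mem_ker.mp hy, mul_one]
  have hBs : Function.Surjective ((ψ.comp N.subtype).comp (B0 : Subgroup N).subtype) := by
    intro s
    have h4 : ((B0.mapSurjective hNs : Sylow 2 (Fin 3 → ℤˣ)) : Subgroup (Fin 3 → ℤˣ)) = ⊤ := by
      have h5 : IsPGroup 2 (⊤ : Subgroup (Fin 3 → ℤˣ)) := by
        rintro ⟨x, hx⟩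
        exact ⟨1, Subtype.ext (by
          rw [pow_one]
          change x ^ 2 = 1
          rw [pow_two]; exact sq_eq_one x)⟩
      exact ((B0.mapSurjective hNs).is_maximal' h5 le_top).symm
    have h5 : s ∈ ((B0.mapSurjective hNs : Sylow 2 (Fin 3 → ℤˣ)) : Subgroup (Fin 3 → ℤˣ)) := by
      rw [h4]; trivial
    rw [Sylow.coe_mapSurjective] at h5
    obtain ⟨b, hb, e⟩ := h5
    exact ⟨⟨b, hb⟩, e⟩
  -- the action of `N` on `R`
  let θ : N →* MulAut R := R.normalizerMonoidHom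
  obtain ⟨ρ, hρ⟩ := Cfsg.Agent.OddOrderLocal.RankTwoRep.exists_rep (p := 3) (by norm_num) hRp
    (Sec.Reduce.prankLE_of_injective R.subtype R.subtype_injective hr)
  refine two_gen B0.isPGroup' ((ρ.comp θ).comp (B0 : Subgroup N).subtype)
    ((ψ.comp N.subtype).comp (B0 : Subgroup N).subtype) hBs fun b hb => ?_
  -- `b` centralises `R`
  have h4 : θ (b : N) = 1 := by
    refine hρ _ ?_ hb
    obtain ⟨k, hk⟩ := B0.isPGroup' b
    have h5 : θ (b : N) ^ 2 ^ k = 1 := by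
      rw [← map_pow]
      have h6 : (b : N) ^ 2 ^ k = 1 := congrArg Subtype.val hk
      rw [h6, map_one]
    exact Nat.Coprime.of_dvd_left (orderOf_dvd_of_pow_eq_one h5) (Nat.Coprime.pow_left k (by norm_num))
  have h5 : ((b : N) : Γ) ∈ centralizer (R : Set Γ) := by
    have h6 : (b : N) ∈ R.normalizerMonoidHom.ker := MonoidHom.mem_ker.mpr h4
    rw [normalizerMonoidHom_ker, mem_subgroupOf] at h6
    exact h6
  rw [mem_centralizer_iff] at h5
  have h6 : ((b : N) : Γ) ∈ Y := by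
    rw [memY]
    intro j
    obtain ⟨z, hz, hz1, hz2⟩ := hcov j
    refine perm_sign (φ z j) (φ ((b : N) : Γ) j) hz1 hz2 ?_
    have := congrFun (congrArg φ (h5 z hz)) j
    rw [map_mul, map_mul] at this
    exact this.symm
  exact MonoidHom.mem_ker.mp h6

/-! ### Three triples -/

variable {G : Type*} [Group G]

/-- `g` acts on the triples `d i` by `A i`. -/
def Act (d : Fin 3 → Fin 3 → G) (g : G) (A : Fin 3 → Equiv.Perm (Fin 3)) : Prop :=
  ∀ i a, g * d i a * g⁻¹ = d i (A i a)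

theorem Act.one (d : Fin 3 → Fin 3 → G) : Act d 1 1 := fun i a => by
  rw [one_mul, inv_one, mul_one]; rfl

theorem Act.mul {d : Fin 3 → Fin 3 → G} {g h : G} {A B : Fin 3 → Equiv.Perm (Fin 3)} (hg : Act d g A)
    (hh : Act d h B) : Act d (g * h) (A * B) := fun i a => by
  have e : g * h * d i a * (g * h)⁻¹ = g * (h * d i a * h⁻¹) * g⁻¹ := by group
  rw [e, hh, hg]; rfl

theorem Act.inv {d : Fin 3 → Fin 3 → G} {g : G} {A : Fin 3 → Equiv.Perm (Fin 3)} (hg : Act d g A) :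
    Act d g⁻¹ A⁻¹ := fun i a => by
  have h1 := hg i ((A i)⁻¹ a)
  have e : A i ((A i)⁻¹ a) = a := Equiv.apply_symm_apply (A i) a
  rw [e] at h1
  rw [← h1]
  change g⁻¹ * (g * d i ((A i)⁻¹ a) * g⁻¹) * g⁻¹⁻¹ = d i ((A i)⁻¹ a)
  group

/-- The elements of `C` acting on the three triples. -/
def X (C : Subgroup G) (d : Fin 3 → Fin 3 → G) : Subgroup G where
  carrier := {g | g ∈ C ∧ ∃ A, Act d g A}
  one_mem' := ⟨C.one_mem, 1, Act.one d⟩
  mul_mem' := by
    rintro a b ⟨ha, A, hA⟩ ⟨hb, B, hB⟩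
    exact ⟨C.mul_mem ha hb, A * B, hA.mul hB⟩
  inv_mem' := by
    rintro a ⟨ha, A, hA⟩
    exact ⟨C.inv_mem ha, A⁻¹, hA.inv⟩

theorem swaps : ∀ σ : Equiv.Perm (Fin 3), σ = 1 ∨ σ = Equiv.swap 1 2 ∨ σ = Equiv.swap 0 2 ∨
    σ = Equiv.swap 1 2 * Equiv.swap 0 2 ∨ σ = Equiv.swap 0 2 * Equiv.swap 1 2 ∨
    σ = Equiv.swap 1 2 * Equiv.swap 0 2 * Equiv.swap 1 2 := by decide

/-- **Three triples.** -/
theorem no_act [Finite G] (hr : PRankLE 3 2 G) (C : Subgroup G) (d : Fin 3 → Fin 3 → G)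
    (hd : ∀ i, Function.Injective (d i))
    (h1 : ∀ i, ∃ g ∈ C, Act d g (Pi.mulSingle i (Equiv.swap 1 2)))
    (h2 : ∀ i, ∃ g ∈ C, Act d g (Pi.mulSingle i (Equiv.swap 0 2))) : False := by
  classical
  have uniq : ∀ (g : G) (A B : Fin 3 → Equiv.Perm (Fin 3)), Act d g A → Act d g B → A = B := by
    intro g A B hA hB
    funext i
    ext a
    have h3 := hA i a
    rw [hB i a] at h3
    exact congrArg _ (hd i h3).symm
  let φ : X C d →* (Fin 3 → Equiv.Perm (Fin 3)) :=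
    { toFun := fun g => g.2.2.choose
      map_one' := uniq 1 _ _ (1 : X C d).2.2.choose_spec (Act.one d)
      map_mul' := fun a b => uniq (a * b) _ _ (a * b).2.2.choose_spec
        (a.2.2.choose_spec.mul b.2.2.choose_spec) }
  have hφ : ∀ g : X C d, Act d g (φ g) := fun g => g.2.2.choose_spec
  refine no_surj (Sec.Reduce.prankLE_of_injective (X C d).subtype (X C d).subtype_injective hr) φ ?_
  have key : ∀ A, (∃ g ∈ C, Act d g A) → A ∈ φ.range := by
    rintro A ⟨g, hg, hA⟩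
    exact ⟨⟨g, hg, A, hA⟩, uniq g _ _ (hφ ⟨g, hg, A, hA⟩) hA⟩
  have k1 : ∀ i, ∀ σ : Equiv.Perm (Fin 3), (Pi.mulSingle i σ : Fin 3 → Equiv.Perm (Fin 3)) ∈ φ.range := by
    intro i σ
    have a1 := key _ (h1 i)
    have a2 := key _ (h2 i)
    have ms : ∀ σ τ : Equiv.Perm (Fin 3), (Pi.mulSingle i σ : Fin 3 → Equiv.Perm (Fin 3)) *
        Pi.mulSingle i τ = Pi.mulSingle i (σ * τ) := fun σ τ => by
      rw [← Pi.mulSingle_mul]
    rcases swaps σ with h | h | h | h | h | h <;> rw [h]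
    · rw [Pi.mulSingle_one]; exact one_mem _
    · exact a1
    · exact a2
    · rw [← ms]; exact mul_mem a1 a2
    · rw [← ms]; exact mul_mem a2 a1
    · rw [← ms, ← ms]; exact mul_mem (mul_mem a1 a2) a1
  intro A
  have e : A = Pi.mulSingle 0 (A 0) * Pi.mulSingle 1 (A 1) * Pi.mulSingle 2 (A 2) := by
    funext i
    fin_cases i <;> simp
  have h5 : A ∈ φ.range := by
    rw [e]
    exact mul_mem (mul_mem (k1 0 _) (k1 1 _)) (k1 2 _)
  exact h5

end Cfsg.Agent.Omega.SQT.RankThree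

end

section


/-!
# LightL / SN.Two for `m_3(G) ≤ 2` (`K = QK`; helper534 #23321)

**`rank_false`** : the situation of `sym` is impossible in a group of 3-rank at most 2 (`Sym(10) ≥ S₃ × S₃ × S₃`).
-/

set_option autoImplicit false
set_option linter.unusedSectionVars false

namespace Cfsg.Agent.Omega.NO3S.SN2.VPlus

open Subgroup Cfsg Cfsg.Agent.Omega.S5.Def Cfsg.Agent.Omega.NSix.Base Cfsg.Agent.Omega.NSix.Basic

universe u

variable {G : Type u} [Group G] {n : ℕ} {V Q N : Subgroup G} {ε : (Fin n → ZMod 2) → G}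
  {E : Fin n → Fin n → Subgroup G} {Φ : (Fin n × Bool → ZMod 2) → G}

theorem rank_false [Finite G] (hr : PRankLE 3 2 G) (h : Dt V Q N ε E) (l : Lt V Q ε E Φ) {M : Subgroup G}
    (hs : ∀ σ : Equiv.Perm (Fin n × Bool), ∃ g ∈ M, ActD Φ g σ) : False := by
  classical
  obtain ⟨ι⟩ : Nonempty ((Fin 3 × Fin 3) ↪ (Fin n × Bool)) := by
    apply Function.Embedding.nonempty_of_card_le
    rw [Fintype.card_prod, Fintype.card_prod, Fintype.card_fin, Fintype.card_fin, Fintype.card_bool]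
    have := h.five
    omega
  let d : Fin 3 → Fin 3 → G := fun i a => Φ (pr (ι (i, a + 1)) (ι (i, a + 2)))
  have key : ∀ i (τ : Equiv.Perm (Fin 3)), ∃ g ∈ M, SQT.RankThree.Act d g (Pi.mulSingle i τ) := by
    intro i τ
    let ρ : Equiv.Perm (Fin 3 × Fin 3) := Equiv.prodCongrRight (Pi.mulSingle i τ)
    obtain ⟨g, hg, hσ⟩ := hs (ρ.viaEmbedding ι)
    refine ⟨g, hg, fun j a => ?_⟩
    change g * Φ (pr (ι (j, a + 1)) (ι (j, a + 2))) * g⁻¹ = Φ (pr (ι (j, _ + 1)) (ι (j, _ + 2)))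
    rw [hσ, Equiv.Perm.viaEmbedding_apply, Equiv.Perm.viaEmbedding_apply]
    change Φ (pr (ι (j, (Pi.mulSingle i τ : Fin 3 → Equiv.Perm (Fin 3)) j (a + 1)))
      (ι (j, (Pi.mulSingle i τ : Fin 3 → Equiv.Perm (Fin 3)) j (a + 2)))) = _
    generalize (Pi.mulSingle i τ : Fin 3 → Equiv.Perm (Fin 3)) j = θ
    have h1 : ∀ (θ : Equiv.Perm (Fin 3)) (a : Fin 3), (θ (a + 1) = θ a + 1 ∧ θ (a + 2) = θ a + 2) ∨
        (θ (a + 1) = θ a + 2 ∧ θ (a + 2) = θ a + 1) := by decide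
    rcases h1 θ a with h2 | h2
    · rw [h2.1, h2.2]
    · rw [h2.1, h2.2, pr_comm]
  refine SQT.RankThree.no_act hr M d ?_ (fun i => key i _) (fun i => key i _)
  intro i a b hab
  have hne : ∀ a : Fin 3, a + 1 ≠ a + 2 := by decide
  have h1 := l.inj h (fun e => hne a (congrArg Prod.snd (ι.injective e))) hab
  have h2 : (a + 1 = b + 1 ∧ a + 2 = b + 2) ∨ (a + 1 = b + 2 ∧ a + 2 = b + 1) := by
    rcases h1 with h1 | h1
    · exact Or.inl ⟨congrArg Prod.snd (ι.injective h1.1), congrArg Prod.snd (ι.injective h1.2)⟩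
    · exact Or.inr ⟨congrArg Prod.snd (ι.injective h1.1), congrArg Prod.snd (ι.injective h1.2)⟩
  revert h2
  clear * -
  revert a b
  decide

end Cfsg.Agent.Omega.NO3S.SN2.VPlus

end
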